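import Groth.Agent.IndEtStrict.Ring
import Groth.Agent.IndEtLib.Localization
import Groth.Agent.IndEtLib.Sys
import Groth.Agent.IndZarLib.Factor
import Groth.Agent.UnitStalk.StrictPullback
import Groth.Agent.S0733
import Groth.Agent.S0734
import Groth.Agent.S0735
import Groth.Agent.S12237
import Groth.Prelude.Def_Hens2
import Mathlib.AlgebraicGeometry.Pullbacks

/-!
# Strict henselizations along ind-étale morphisms
-/

set_option autoImplicit false
set_option linter.style.haveILetI false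
universe u

open CategoryTheory CategoryTheory.Limits AlgebraicGeometry IsLocalRing Opposite TensorProduct

namespace Groth.Agent.IndEtStrict

/-- strict henselizations upstairs are strict henselizations downstairs -/
def Transfers {T Y : Scheme.{u}} (ρ : T ⟶ Y) : Prop :=
  ∀ (t : T) (R : Type u) [CommRing R] [IsLocalRing R] [Algebra (T.presheaf.stalk t) R]
    [IsLocalHom (algebraMap (T.presheaf.stalk t) R)] [Hensel.IsStrictHenselization (T.presheaf.stalk t) R],
    ∃ (_ : Algebra (Y.presheaf.stalk (ρ t)) R) (_ : IsLocalHom (algebraMap (Y.presheaf.stalk (ρ t)) R))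
      (_ : Hensel.IsStrictHenselization (Y.presheaf.stalk (ρ t)) R),
      Hens2.specOf T t R ≫ ρ = Hens2.specOf Y (ρ t) R

theorem strict_congr {Y : Scheme.{u}} {y y' : Y} (h : y = y') (R : Type u) [CommRing R] [IsLocalRing R]
    (q : Spec (CommRingCat.of R) ⟶ Y)
    (H : ∃ (_ : Algebra (Y.presheaf.stalk y) R) (_ : IsLocalHom (algebraMap (Y.presheaf.stalk y) R))
      (_ : Hensel.IsStrictHenselization (Y.presheaf.stalk y) R), q = Hens2.specOf Y y R) :
    ∃ (_ : Algebra (Y.presheaf.stalk y') R) (_ : IsLocalHom (algebraMap (Y.presheaf.stalk y') R))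
      (_ : Hensel.IsStrictHenselization (Y.presheaf.stalk y') R), q = Hens2.specOf Y y' R := by
  subst h
  exact H

/-- a strict henselization pulled back along an open immersion -/
theorem exists_strict_openImmersion {V T : Scheme.{u}} (κ : V ⟶ T) [IsOpenImmersion κ] (v : V) (R : Type u)
    [CommRing R] [IsLocalRing R] [Algebra (T.presheaf.stalk (κ v)) R]
    [IsLocalHom (algebraMap (T.presheaf.stalk (κ v)) R)] [Hensel.IsStrictHenselization (T.presheaf.stalk (κ v)) R] :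
    ∃ (_ : Algebra (V.presheaf.stalk v) R) (_ : IsLocalHom (algebraMap (V.presheaf.stalk v) R))
      (_ : Hensel.IsStrictHenselization (V.presheaf.stalk v) R),
      Hens2.specOf V v R ≫ κ = Hens2.specOf T (κ v) R := by
  let ι : T.presheaf.stalk (κ v) →+* V.presheaf.stalk v := (κ.stalkMap v).hom
  have hι : Function.Surjective ι := (ConcreteCategory.bijective_of_isIso (κ.stalkMap v)).2
  let e := (asIso (κ.stalkMap v)).commRingCatIsoToRingEquiv
  let a : V.presheaf.stalk v →+* R := (algebraMap (T.presheaf.stalk (κ v)) R).comp e.symm.toRingHom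
  haveI : IsLocalHom e.symm.toRingHom := ⟨fun x hx => by simpa using hx.map e.toRingHom⟩
  haveI ha : IsLocalHom a := RingHom.isLocalHom_comp _ _
  letI : Algebra (V.presheaf.stalk v) R := a.toAlgebra
  haveI : IsLocalHom (algebraMap (V.presheaf.stalk v) R) := ha
  haveI hloc : IsLocalHom ι := inferInstanceAs (IsLocalHom (κ.stalkMap v).hom)
  have hc : (algebraMap (V.presheaf.stalk v) R).comp ι = algebraMap (T.presheaf.stalk (κ v)) R :=
    RingHom.ext fun x => congrArg (algebraMap (T.presheaf.stalk (κ v)) R) (e.symm_apply_apply x)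
  have hstr : Hensel.IsStrictHenselization (V.presheaf.stalk v) R :=
    StrictModel13.isStrictHenselization_of_rigid ι hc fun T' _ _ f₁ f₂ _ _ h _ => RingHom.ext fun x => by
      obtain ⟨y, rfl⟩ := hι x
      exact congr($h y)
  refine ⟨a.toAlgebra, ha, hstr, ?_⟩
  rw [Hens2.specOf, Hens2.specOf, Category.assoc, ← UnitStalk.specMap_fromSpecStalk]
  exact congrArg (fun f => Spec.map (CommRingCat.ofHom f) ≫ _) hc

variable {Y : Scheme.{u}} {U : Y.Opens} (hU : IsAffineOpen U) {B : Type u} [CommRing B] (φ : Γ(Y, U) →+* B)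

include hU in
/-- along the spectrum of an ind-étale algebra over an affine chart -/
theorem transfers_chart (h : letI := φ.toAlgebra; EtPBC.IsIndEtale Γ(Y, U) B) :
    Transfers (Spec.map (CommRingCat.ofHom φ) ≫ hU.fromSpec) := by
  intro t R _ _ _ _ _
  let T := Spec (CommRingCat.of B)
  let ρ := Spec.map (CommRingCat.ofHom φ) ≫ hU.fromSpec
  have hq : (Hens2.specOf T t R ≫ ρ) (closedPoint R) = ρ t :=
    (Scheme.Hom.comp_apply _ _ _).trans (congrArg ρ (UnitStalk.specMap_closed t (algebraMap _ R)))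
  obtain ⟨α, hα, hαe⟩ := UnitStalk.exists_stalk_hom (Hens2.specOf T t R ≫ ρ) hq
  have hy : ρ t ∈ U := by
    show (Spec.map (CommRingCat.ofHom φ) ≫ hU.fromSpec) t ∈ U
    rw [Scheme.Hom.comp_apply, ← SetLike.mem_coe, ← hU.range_fromSpec]
    exact Set.mem_range_self _
  letI aY : Algebra (Y.presheaf.stalk (ρ t)) R := α.toAlgebra
  haveI : IsLocalHom (algebraMap (Y.presheaf.stalk (ρ t)) R) := hα
  letI aUB : Algebra Γ(Y, U) B := φ.toAlgebra
  letI aB : Algebra B (T.presheaf.stalk t) := StructureSheaf.stalkAlgebra B t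
  let t' : PrimeSpectrum B := t
  haveI := t'.isPrime
  haveI : IsLocalization.AtPrime (T.presheaf.stalk t) t'.asIdeal := StructureSheaf.IsLocalization.to_stalk B t
  letI aU : Algebra Γ(Y, U) (Y.presheaf.stalk (ρ t)) := (Y.presheaf.germ U (ρ t) hy).hom.toAlgebra
  haveI : IsLocalization.AtPrime (Y.presheaf.stalk (ρ t)) (hU.primeIdealOf ⟨ρ t, hy⟩).asIdeal :=
    hU.isLocalization_stalk ⟨ρ t, hy⟩
  letI aBR : Algebra B R := ((algebraMap (T.presheaf.stalk t) R).comp (algebraMap B _)).toAlgebra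
  haveI : IsScalarTower B (T.presheaf.stalk t) R := IsScalarTower.of_algebraMap_eq fun _ => rfl
  letI aUR : Algebra Γ(Y, U) R := ((algebraMap B R).comp φ).toAlgebra
  haveI : IsScalarTower Γ(Y, U) B R := IsScalarTower.of_algebraMap_eq fun _ => rfl
  have hcomp : α.comp (algebraMap Γ(Y, U) (Y.presheaf.stalk (ρ t))) = algebraMap Γ(Y, U) R := by
    haveI : IsOpenImmersion hU.fromSpec := hU.isOpenImmersion_fromSpec
    refine congrArg CommRingCat.Hom.hom (Spec.map_injective ((cancel_mono hU.fromSpec).1 ?_) :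
      CommRingCat.ofHom (α.comp (algebraMap Γ(Y, U) (Y.presheaf.stalk (ρ t)))) =
        CommRingCat.ofHom (algebraMap Γ(Y, U) R))
    rw [CommRingCat.ofHom_comp, Spec.map_comp, Category.assoc]
    have h1 : Spec.map (CommRingCat.ofHom (algebraMap Γ(Y, U) (Y.presheaf.stalk (ρ t)))) ≫ hU.fromSpec =
        Y.fromSpecStalk (ρ t) := by
      rw [← hU.fromSpecStalk_eq_fromSpecStalk hy]
      rfl
    have hT : T.fromSpecStalk t = Spec.map (CommRingCat.ofHom (algebraMap B (T.presheaf.stalk t))) :=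
      Spec.fromSpecStalk_eq' _ t
    rw [h1, hαe, Hens2.specOf, hT]
    show _ = Spec.map (CommRingCat.ofHom φ ≫ CommRingCat.ofHom (algebraMap B (T.presheaf.stalk t)) ≫
      CommRingCat.ofHom (algebraMap (T.presheaf.stalk t) R)) ≫ hU.fromSpec
    rw [Spec.map_comp, Spec.map_comp]
    simp only [ρ, Category.assoc]
  haveI : IsScalarTower Γ(Y, U) (Y.presheaf.stalk (ρ t)) R :=
    IsScalarTower.of_algebraMap_eq fun a => (congr($hcomp a)).symm
  have h1 : EtPBC.IsIndEtale B R := S0734.result B (T.presheaf.stalk t) R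
    (IndZarLib.isIndEtale_of_isIndZariski (IndEtLib.isIndZariski_localization t'.asIdeal.primeCompl (T.presheaf.stalk t)))
    (S12237.result (T.presheaf.stalk t) R)
  have h2 : EtPBC.IsIndEtale Γ(Y, U) R := S0734.result Γ(Y, U) B R h h1
  have h3 : EtPBC.IsIndEtale (Y.presheaf.stalk (ρ t)) R := S0735.result Γ(Y, U) (Y.presheaf.stalk (ρ t)) R
    (IndZarLib.isIndEtale_of_isIndZariski
      (IndEtLib.isIndZariski_localization (hU.primeIdealOf ⟨ρ t, hy⟩).asIdeal.primeCompl (Y.presheaf.stalk (ρ t)))) h2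
  haveI : HenselianLocalRing R := Hensel.IsStrictHenselization.henselian (T.presheaf.stalk t)
  haveI : IsSepClosed (ResidueField R) :=
    (Hensel.IsStrictHenselization.isSepClosure (R := T.presheaf.stalk t) (S := R)).sep_closed
  exact ⟨aY, hα, isStrictHenselization_of_isIndEtale (Y.presheaf.stalk (ρ t)) R h3, hαe.symm⟩

/-- an étale algebra is ind-étale -/
theorem isIndEtale_of_etale (A C : Type u) [CommRing A] [CommRing C] [Algebra A C] [Algebra.Etale A C] :
    EtPBC.IsIndEtale A C :=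
  IndEtLib.isIndEtale_of_factor fun _ _ _ _ φ =>
    ⟨C, inferInstance, inferInstance, inferInstance, φ, AlgHom.id A C, AlgHom.id_comp φ⟩

/-- the morphisms which are spectra of ind-étale algebras over an affine chart -/
def IsChart {T Y : Scheme.{u}} (ρ : T ⟶ Y) : Prop :=
  ∃ (B : Type u) (_ : CommRing B) (e : Spec (CommRingCat.of B) ≅ T) (U : Y.Opens) (hU : IsAffineOpen U)
    (φ : Γ(Y, U) →+* B), (letI := φ.toAlgebra; EtPBC.IsIndEtale Γ(Y, U) B) ∧
      e.hom ≫ ρ = Spec.map (CommRingCat.ofHom φ) ≫ hU.fromSpec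

/-- a strict localization followed by an étale morphism -/
theorem isChart_specOf_comp {V Y : Scheme.{u}} (r : V ⟶ Y) [AlgebraicGeometry.Etale r] (v : V)
    (A : Type u) [CommRing A] [IsLocalRing A] [Algebra (V.presheaf.stalk v) A]
    [IsLocalHom (algebraMap (V.presheaf.stalk v) A)] [Hensel.IsStrictHenselization (V.presheaf.stalk v) A] :
    IsChart (Hens2.specOf V v A ≫ r) := by
  obtain ⟨_, ⟨U, hU, rfl⟩, hyU, -⟩ :=
    Y.isBasis_affineOpens.exists_subset_of_mem_open (Set.mem_univ (r v)) isOpen_univ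
  obtain ⟨_, ⟨W, hW, rfl⟩, hvW, hWU⟩ :=
    V.isBasis_affineOpens.exists_subset_of_mem_open (show v ∈ r ⁻¹ᵁ U from hyU) (r ⁻¹ᵁ U).2
  replace hU : IsAffineOpen U := hU
  replace hW : IsAffineOpen W := hW
  letI aUW : Algebra Γ(Y, U) Γ(V, W) := (r.appLE U W hWU).hom.toAlgebra
  haveI : Algebra.Etale Γ(Y, U) Γ(V, W) := RingHom.etale_algebraMap.1
    (HasRingHomProperty.appLE @AlgebraicGeometry.Etale r inferInstance ⟨U, hU⟩ ⟨W, hW⟩ hWU)
  letI aW : Algebra Γ(V, W) (V.presheaf.stalk v) := (V.presheaf.germ W v hvW).hom.toAlgebra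
  haveI : IsLocalization.AtPrime (V.presheaf.stalk v) (hW.primeIdealOf ⟨v, hvW⟩).asIdeal :=
    hW.isLocalization_stalk ⟨v, hvW⟩
  letI aWA : Algebra Γ(V, W) A := ((algebraMap (V.presheaf.stalk v) A).comp (algebraMap Γ(V, W) _)).toAlgebra
  haveI : IsScalarTower Γ(V, W) (V.presheaf.stalk v) A := IsScalarTower.of_algebraMap_eq fun _ => rfl
  let φ : Γ(Y, U) →+* A := (algebraMap Γ(V, W) A).comp (algebraMap Γ(Y, U) Γ(V, W))
  letI aUA : Algebra Γ(Y, U) A := φ.toAlgebra
  haveI : IsScalarTower Γ(Y, U) Γ(V, W) A := IsScalarTower.of_algebraMap_eq fun _ => rfl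
  have h1 : EtPBC.IsIndEtale Γ(V, W) A := S0734.result Γ(V, W) (V.presheaf.stalk v) A
    (IndZarLib.isIndEtale_of_isIndZariski
      (IndEtLib.isIndZariski_localization (hW.primeIdealOf ⟨v, hvW⟩).asIdeal.primeCompl (V.presheaf.stalk v)))
    (S12237.result (V.presheaf.stalk v) A)
  refine ⟨A, inferInstance, Iso.refl _, U, hU, φ,
    S0734.result Γ(Y, U) Γ(V, W) A (isIndEtale_of_etale _ _) h1, ?_⟩
  let g₁ : Γ(V, W) ⟶ V.presheaf.stalk v := V.presheaf.germ W v hvW
  let g₂ : V.presheaf.stalk v ⟶ CommRingCat.of A := CommRingCat.ofHom (algebraMap (V.presheaf.stalk v) A)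
  have e1 : Hens2.specOf V v A = Spec.map g₂ ≫ Spec.map g₁ ≫ hW.fromSpec := by
    rw [Hens2.specOf, ← hW.fromSpecStalk_eq_fromSpecStalk hvW]
    rfl
  have e2 : Spec.map (CommRingCat.ofHom φ) = Spec.map g₂ ≫ Spec.map g₁ ≫ Spec.map (r.appLE U W hWU) := by
    rw [← Category.assoc, ← Spec.map_comp, ← Spec.map_comp]
    rfl
  rw [Iso.refl_hom, Category.id_comp, e1, e2]
  simp only [Category.assoc]
  rw [hU.SpecMap_appLE_fromSpec r hW hWU]

/-- charts transfer strict henselizations -/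
theorem IsChart.transfers {T Y : Scheme.{u}} {ρ : T ⟶ Y} (h : IsChart ρ) : Transfers ρ := by
  obtain ⟨B, _, e, U, hU, φ, hφ, he⟩ := h
  intro t R _ _ _ _ _
  obtain ⟨b, rfl⟩ := e.hom.surjective t
  obtain ⟨i1, i2, i3, hb⟩ := exists_strict_openImmersion e.hom b R
  obtain ⟨a1, a2, a3, ha⟩ := @transfers_chart Y U hU B _ φ hφ b R _ _ i1 i2 i3
  refine strict_congr ((congrArg (fun k : Spec (CommRingCat.of B) ⟶ Y => k b) he.symm).trans
    (Scheme.Hom.comp_apply _ _ _)) R _ ⟨a1, a2, a3, ?_⟩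
  rw [← hb, Category.assoc, he, ha]

/-- a cartesian square over an open subscheme of the base -/
theorem isPullback_mono_base {Z A B U' T Y X : Scheme.{u}} {l : Z ⟶ A} {r : Z ⟶ B} {f : A ⟶ U'} {k : B ⟶ U'}
    (hT : IsPullback l r f k) {j : U' ⟶ Y} [Mono j] {w : A ⟶ X} {g : X ⟶ Y} (hg : f ≫ j = w ≫ g)
    (e : B ≅ T) {ρ : T ⟶ Y} (he : ρ = e.inv ≫ k ≫ j) (h : l ≫ w ≫ g = (r ≫ e.hom) ≫ ρ) :
    IsPullback l (r ≫ e.hom) (w ≫ g) ρ := by
  have hj : ∀ s : PullbackCone (w ≫ g) ρ, s.fst ≫ f = (s.snd ≫ e.inv) ≫ k := fun s =>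
    (cancel_mono j).1 (by
      simp only [Category.assoc, hg]
      rw [← he]
      exact s.condition)
  exact IsPullback.of_isLimit' ⟨h⟩ (PullbackCone.IsLimit.mk _
    (fun s => hT.lift s.fst (s.snd ≫ e.inv) (hj s))
    (fun s => hT.lift_fst _ _ _)
    (fun s => by rw [hT.lift_snd_assoc, Category.assoc, e.inv_hom_id, Category.comp_id])
    (fun s m h1 h2 => hT.hom_ext (h1.trans (hT.lift_fst _ _ _).symm)
      (by rw [hT.lift_snd, ← h2]; simp)))

/-- base changes of charts transfer strict henselizations -/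
theorem IsChart.transfers_pullback {T Y X : Scheme.{u}} {ρ : T ⟶ Y} (h : IsChart ρ) {P : Scheme.{u}} {g : X ⟶ Y}
    {a : P ⟶ X} {b : P ⟶ T} (sq : IsPullback a b g ρ) : Transfers a := by
  obtain ⟨B, _, e, U, hU, φ, hφ, he⟩ := h
  intro p R _ _ _ _ _
  have hy : g (a p) ∈ U := by
    obtain ⟨t, ht⟩ := e.hom.surjective (b p)
    rw [show g (a p) = ρ (b p) from (Scheme.Hom.comp_apply _ _ _).symm.trans
      ((congrArg (fun k : P ⟶ Y => k p) sq.w).trans (Scheme.Hom.comp_apply _ _ _)), ← ht,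
      ← Scheme.Hom.comp_apply, he, Scheme.Hom.comp_apply, ← SetLike.mem_coe, ← hU.range_fromSpec]
    exact Set.mem_range_self _
  obtain ⟨_, ⟨W, hW, rfl⟩, hxW, hWU⟩ :=
    X.isBasis_affineOpens.exists_subset_of_mem_open (show a p ∈ g ⁻¹ᵁ U from hy) (g ⁻¹ᵁ U).2
  replace hW : IsAffineOpen W := hW
  letI aU : Algebra Γ(Y, U) Γ(X, W) := (g.appLE U W hWU).hom.toAlgebra
  letI aB : Algebra Γ(Y, U) B := φ.toAlgebra
  let jL : CommRingCat.of Γ(X, W) ⟶ CommRingCat.of (Γ(X, W) ⊗[Γ(Y, U)] B) :=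
    CommRingCat.ofHom (Algebra.TensorProduct.includeLeftRingHom)
  let jR : CommRingCat.of B ⟶ CommRingCat.of (Γ(X, W) ⊗[Γ(Y, U)] B) :=
    CommRingCat.ofHom (Algebra.TensorProduct.includeRight : B →ₐ[Γ(Y, U)] _).toRingHom
  have hT := isPullback_SpecMap_of_isPushout _ _ _ _ (CommRingCat.isPushout_tensorProduct Γ(Y, U) Γ(X, W) B)
  haveI : IsOpenImmersion hU.fromSpec := hU.isOpenImmersion_fromSpec
  haveI : IsOpenImmersion hW.fromSpec := hW.isOpenImmersion_fromSpec
  have hg : Spec.map (g.appLE U W hWU) ≫ hU.fromSpec = hW.fromSpec ≫ g := hU.SpecMap_appLE_fromSpec g hW hWU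
  have hY : IsPullback (Spec.map jL) (Spec.map jR ≫ e.hom) (hW.fromSpec ≫ g) ρ := by
    have he' : ρ = e.inv ≫ Spec.map (CommRingCat.ofHom φ) ≫ hU.fromSpec := by rw [← he, Iso.inv_hom_id_assoc]
    have w : Spec.map jL ≫ hW.fromSpec ≫ g = (Spec.map jR ≫ e.hom) ≫ ρ := by
      rw [← hg, Category.assoc, he, ← Category.assoc, ← Category.assoc]
      exact congrArg (· ≫ hU.fromSpec) hT.w
    exact isPullback_mono_base hT hg e he' w
  let κ : Spec (CommRingCat.of (Γ(X, W) ⊗[Γ(Y, U)] B)) ⟶ P :=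
    sq.lift (Spec.map jL ≫ hW.fromSpec) (Spec.map jR ≫ e.hom) ((Category.assoc _ _ _).trans hY.w)
  have hκa : κ ≫ a = Spec.map jL ≫ hW.fromSpec := sq.lift_fst _ _ _
  have hκb : κ ≫ b = Spec.map jR ≫ e.hom := sq.lift_snd _ _ _
  have hκ : IsPullback κ (Spec.map jL) a hW.fromSpec :=
    IsPullback.of_right (h₁₂ := b) (v₁₃ := ρ) (h₂₂ := g) (hκb.symm ▸ hY.flip) hκa sq.flip
  haveI : IsOpenImmersion κ := MorphismProperty.of_isPullback hκ.flip inferInstance
  obtain ⟨w₀, hw₀⟩ : a p ∈ Set.range hW.fromSpec := by rw [hW.range_fromSpec]; exact hxW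
  obtain ⟨q, hq, -⟩ := Scheme.exists_preimage_of_isPullback hκ p w₀ hw₀.symm
  subst hq
  obtain ⟨i1, i2, i3, hb⟩ := exists_strict_openImmersion κ q R
  let ψ : Γ(X, W) →+* Γ(X, W) ⊗[Γ(Y, U)] B := Algebra.TensorProduct.includeLeftRingHom
  have hψ : letI := ψ.toAlgebra; EtPBC.IsIndEtale Γ(X, W) (Γ(X, W) ⊗[Γ(Y, U)] B) :=
    S0733.result Γ(Y, U) B Γ(X, W) hφ
  have := @transfers_chart X W hW _ _ ψ hψ q R _ _ i1 i2 i3
  obtain ⟨a1, a2, a3, ha⟩ := this
  have hκψ : Spec.map (CommRingCat.ofHom ψ) ≫ hW.fromSpec = κ ≫ a := hκa.symm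
  refine strict_congr ((congrArg (fun k : Spec (CommRingCat.of (Γ(X, W) ⊗[Γ(Y, U)] B)) ⟶ X => k q) hκψ).trans
    (Scheme.Hom.comp_apply _ _ _)) R _ ⟨a1, a2, a3, ?_⟩
  rw [← hb, Category.assoc, ← hκψ, ha]

end Groth.Agent.IndEtStrict
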