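import Groth.Agent.S6391
import Groth.Agent.S12237
import Groth.Agent.S0537
import Groth.Agent.S0733
import Groth.Agent.S0736
import Groth.Agent.WEtLib.OverField
import Mathlib.FieldTheory.IsSepClosed
import Mathlib.Algebra.Polynomial.Splits

/-!
# Strict henselizations as henselian ind-étale local algebras with separably closed residue field
-/

set_option autoImplicit false
set_option linter.style.haveILetI false
universe u

open IsLocalRing TensorProduct

namespace Groth.Agent.IndEtStrict

/-- separable elements of an overfield lie in the image of a separably closed field -/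
theorem mem_range {K A B : Type u} [Field K] [Field A] [Field B] [Algebra K A] [Algebra K B]
    [IsSepClosed A] (τ : A →ₐ[K] B) (b : B) (hb : IsSeparable K b) : b ∈ τ.range := by
  have hs : ((minpoly K b).map (algebraMap K A)).Splits := IsSepClosed.splits_codomain _ hb
  refine hs.mem_range_of_isRoot (i := τ.toRingHom) (Polynomial.map_ne_zero (minpoly.ne_zero hb.isIntegral)) ?_
  rw [Polynomial.map_map, show τ.toRingHom.comp (algebraMap K A) = algebraMap K B from τ.comp_algebraMap,
    Polynomial.IsRoot.def, Polynomial.eval_map, ← Polynomial.aeval_def, minpoly.aeval]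

variable (O R : Type u) [CommRing O] [IsLocalRing O] [CommRing R] [IsLocalRing R] [Algebra O R]
  [IsLocalHom (algebraMap O R)]

/-- residue extensions of ind-étale local algebras are separable -/
theorem isSeparable_residue (h : EtPBC.IsIndEtale O R) (z : ResidueField R) : IsSeparable (ResidueField O) z := by
  haveI : Algebra.WeaklyEtale (ResidueField O) (ResidueField O ⊗[O] R) :=
    S0736.result _ _ (S0733.result O R (ResidueField O) h)
  let μ : ResidueField O ⊗[O] R →ₐ[ResidueField O] ResidueField R :=
    Algebra.TensorProduct.lift (Algebra.ofId (ResidueField O) (ResidueField R))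
      (IsScalarTower.toAlgHom O R (ResidueField R)) (fun _ _ => Commute.all _ _)
  haveI : (RingHom.ker μ.toRingHom).IsPrime := RingHom.ker_isPrime _
  obtain ⟨r, rfl⟩ := residue_surjective z
  let θ : (ResidueField O ⊗[O] R) ⧸ RingHom.ker μ.toRingHom →ₐ[ResidueField O] ResidueField R :=
    Ideal.Quotient.liftₐ _ μ fun a ha => ha
  have hθ : Function.Injective θ := by
    rw [injective_iff_map_eq_zero]
    intro a ha
    obtain ⟨b, rfl⟩ := Ideal.Quotient.mk_surjective a
    exact Ideal.Quotient.eq_zero_iff_mem.2 ha
  have hs := IsSeparable.map θ hθ (WEtLib.isSeparable_mk (K := ResidueField O) (RingHom.ker μ.toRingHom) (1 ⊗ₜ r))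
  have e : θ (Ideal.Quotient.mk (RingHom.ker μ.toRingHom) (1 ⊗ₜ r)) = residue R r := by
    show μ (1 ⊗ₜ r) = residue R r
    simp [μ]
  rwa [e] at hs

/-- the characterization -/
theorem isStrictHenselization_of_isIndEtale [hR : HenselianLocalRing R] [hsep : IsSepClosed (ResidueField R)]
    (h : EtPBC.IsIndEtale O R) : Hensel.IsStrictHenselization O R := by
  obtain ⟨S, _, _, _, _, hS⟩ := S0537.result O
  haveI := hS.henselian
  haveI := hS.isSepClosure.sep_closed
  haveI := hS.isSepClosure.separable
  let τ : ResidueField S →ₐ[ResidueField O] ResidueField R := IsSepClosed.lift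
  have hτ : Function.Surjective τ := fun z => mem_range τ z (isSeparable_residue O R h z)
  let u : S →ₐ[O] ResidueField R :=
    { τ.toRingHom.comp (residue S) with
      commutes' := fun o => by
        show τ (residue S (algebraMap O S o)) = algebraMap O (ResidueField R) o
        exact τ.commutes (residue O o) }
  let u' : R →ₐ[O] ResidueField R := IsScalarTower.toAlgHom O R (ResidueField R)
  obtain ⟨e, he, -⟩ := S6391.result O S R (ResidueField R) (S12237.result O S) h u u'
    (hτ.comp residue_surjective) residue_surjective
    (by
      ext a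
      rw [RingHom.mem_ker, ← residue_eq_zero_iff]
      exact map_eq_zero τ.toRingHom)
    (by ext a; rw [RingHom.mem_ker]; exact residue_eq_zero_iff a)
  refine ⟨hR, ⟨hsep, ⟨isSeparable_residue O R h⟩⟩, fun T _ _ f _ σ hσ => ?_⟩
  haveI : IsLocalHom e.toRingEquiv.toRingHom := ⟨fun a ha => by simpa using ha.map e.symm⟩
  have hres : ∀ s : S, residue R (e s) = τ (residue S s) := fun s => AlgHom.congr_fun he s
  obtain ⟨g, ⟨hg, hgr⟩, huniq⟩ := hS.universal T f (σ.comp τ.toRingHom) (RingHom.ext fun c => by
    obtain ⟨o, rfl⟩ := residue_surjective c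
    refine Eq.trans (congrArg σ (τ.commutes (residue O o))) ?_
    exact congr($hσ (residue O o)))
  refine ⟨g.comp e.symm.toRingEquiv.toRingHom, ⟨RingHom.ext fun o => ?_, fun r => ?_⟩, fun g' hg' => ?_⟩
  · show g (e.symm (algebraMap O R o)) = f o
    rw [e.symm.commutes]
    exact congr($hg o)
  · show residue T (g (e.symm r)) = σ (residue R r)
    rw [hgr]
    show σ (τ (residue S (e.symm r))) = _
    rw [← hres, e.apply_symm_apply]
  · have hge : g'.comp e.toRingEquiv.toRingHom = g := huniq _ ⟨RingHom.ext fun o => by
      show g' (e (algebraMap O S o)) = f o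
      rw [e.commutes]
      exact congr($(hg'.1) o), fun s => (hg'.2 (e s)).trans (congrArg σ (hres s))⟩
    refine RingHom.ext fun r => ?_
    show g' r = g (e.symm r)
    rw [← hge]
    exact congrArg g' (e.apply_symm_apply r).symm

end Groth.Agent.IndEtStrict
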